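import Groth.Prelude.Def_MoreMor
import Groth.Agent.Lib.FlatDepth.CMTensor
import Groth.Agent.Lib.FlatDepth.FibreStalk
import Groth.Agent.Lib.NormFin18.Apps
import Groth.Agent.Lib.FlatH4.FlatComp
import Groth.Agent.Lib.Descend.PointLocal
import Groth.Agent.Lib.AlgSpDecent.FlatAt

/-!
# Cohen–Macaulay stalks under extension of the base field, for schemes and fibres
-/

set_option autoImplicit false
set_option linter.style.haveILetI false
universe u

open CategoryTheory CategoryTheory.Limits AlgebraicGeometry TensorProduct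

namespace Groth.Agent.CMBase

theorem cm_congr {R S : Type u} [CommRing R] [CommRing S] (e : R ≃+* S)
    (h : LocCoh.IsCohenMacaulayLocalRing R) : LocCoh.IsCohenMacaulayLocalRing S := by
  haveI := isNoetherianRing_of_ringEquiv R e
  haveI := e.isLocalRing
  refine { supportDim_eq_depth := ?_ }
  rw [Module.supportDim_self_eq_ringKrullDim, ← ringKrullDim_eq_of_ringEquiv e, SMT.depth_eq_of_ringEquiv e,
    ← Module.supportDim_self_eq_ringKrullDim, h.supportDim_eq_depth]

/-- Cohen–Macaulay local rings under an extension of the ground field. -/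
theorem cm_iff_baseChange_field {k : Type u} [Field k] (S : Type u) [CommRing S] [Algebra k S] [IsNoetherianRing S]
    (K : Type u) [Field K] [Algebra k K] [IsNoetherianRing (S ⊗[k] K)] (q : Ideal (S ⊗[k] K)) [q.IsPrime] :
    LocCoh.IsCohenMacaulayLocalRing (Localization.AtPrime (q.comap (algebraMap S (S ⊗[k] K)))) ↔
      LocCoh.IsCohenMacaulayLocalRing (Localization.AtPrime q) := by
  have hf : ∀ m, FlatDepth.SkIneq m (EGA4.FibLocRing S (S ⊗[k] K) q) :=
    fun m => FlatDepth.skIneq_fibLoc_field S K m q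
  constructor
  · intro h
    exact (FlatDepth.forall_skIneq_iff _).1 fun m =>
      FlatDepth.skIneq_of_fibre (A := S) m q ((FlatDepth.forall_skIneq_iff _).2 h m) (hf m)
  · intro h
    obtain ⟨hd, hdim⟩ := FlatDepth.ring_invariants (A := S) q
    have hF := ((FlatDepth.forall_skIneq_iff _).1 hf).supportDim_eq_depth
    have hT := h.supportDim_eq_depth
    rw [Module.supportDim_self_eq_ringKrullDim] at hF hT
    rw [hdim, hd, hF] at hT
    obtain ⟨a, ha⟩ := DepthLib.exists_supportDim_eq_natCast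
      (R := Localization.AtPrime (q.comap (algebraMap S (S ⊗[k] K))))
      (M := Localization.AtPrime (q.comap (algebraMap S (S ⊗[k] K))))
    obtain ⟨b, hb⟩ := DepthLib.exists_depth_eq_natCast
      (R := Localization.AtPrime (q.comap (algebraMap S (S ⊗[k] K))))
      (M := Localization.AtPrime (q.comap (algebraMap S (S ⊗[k] K))))
    obtain ⟨c, hc⟩ := DepthLib.exists_depth_eq_natCast (R := EGA4.FibLocRing S (S ⊗[k] K) q)
      (M := EGA4.FibLocRing S (S ⊗[k] K) q)
    refine { supportDim_eq_depth := ?_ }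
    rw [Module.supportDim_self_eq_ringKrullDim] at ha ⊢
    rw [ha, hb, hc] at hT
    norm_cast at hT
    rw [ha, hb]
    norm_cast
    omega

theorem stalk_cm_iff {R : CommRingCat.{u}} {X : Scheme.{u}} (j : Spec R ⟶ X)
    [IsOpenImmersion j] (p : PrimeSpectrum R) :
    LocCoh.IsCohenMacaulayLocalRing (X.presheaf.stalk (j p)) ↔
      LocCoh.IsCohenMacaulayLocalRing (Localization.AtPrime p.asIdeal) := by
  let e : X.presheaf.stalk (j p) ≃+* Localization.AtPrime p.asIdeal :=
    (@asIso _ _ _ _ (j.stalkMap (show ↥(Spec R) from p)) inferInstance ≪≫ Spec.stalkIso R p).commRingCatIsoToRingEquiv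
  exact ⟨cm_congr e, cm_congr e.symm⟩

/-- Cohen–Macaulay stalks under extension of the base field. -/
theorem cm_stalk_iff_of_isPullback {k k' : Type u} [Field k] [Field k'] (φ : CommRingCat.of k ⟶ CommRingCat.of k')
    {X X' : Scheme.{u}} {p : X' ⟶ X} {q : X' ⟶ Spec (CommRingCat.of k')} {f : X ⟶ Spec (CommRingCat.of k)}
    [IsLocallyNoetherian X] (hfin : LocallyOfFiniteType f ∨ φ.hom.EssFiniteType)
    (h : IsPullback p q f (Spec.map φ)) (x' : X') :
    LocCoh.IsCohenMacaulayLocalRing (X.presheaf.stalk (p x')) ↔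
      LocCoh.IsCohenMacaulayLocalRing (X'.presheaf.stalk x') := by
  letI : Algebra k k' := φ.hom.toAlgebra
  obtain ⟨U, hU, hxU, -⟩ := exists_isAffineOpen_mem_and_subset (X := X) (U := ⊤) (x := p x') trivial
  let A := Γ(X, U)
  let j : Spec A ⟶ X := hU.fromSpec
  obtain ⟨ψ, hψ⟩ := Spec.map_surjective (j ≫ f)
  letI : Algebra k A := ψ.hom.toAlgebra
  haveI : IsNoetherianRing A := IsLocallyNoetherian.component_noetherian ⟨U, hU⟩
  haveI : IsNoetherianRing (A ⊗[k] k') := by
    rcases hfin with hft | hess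
    · haveI : Algebra.FiniteType k A := by
        have h : LocallyOfFiniteType (Spec.map ψ) := hψ ▸ inferInstance
        exact (HasRingHomProperty.Spec_iff (P := @LocallyOfFiniteType)).1 h
      haveI : Algebra.FiniteType k' (k' ⊗[k] A) := inferInstance
      haveI : IsNoetherianRing (k' ⊗[k] A) := Algebra.FiniteType.isNoetherianRing k' _
      exact isNoetherianRing_of_ringEquiv (k' ⊗[k] A) (Algebra.TensorProduct.comm k k' A).toRingEquiv
    · haveI : Algebra.EssFiniteType k k' := RingHom.essFiniteType_algebraMap.1 hess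
      exact Algebra.EssFiniteType.isNoetherianRing A _
  let T := CommRingCat.of (A ⊗[k] k')
  let inl : A ⟶ T := CommRingCat.ofHom Algebra.TensorProduct.includeLeftRingHom
  let inr : CommRingCat.of k' ⟶ T := CommRingCat.ofHom Algebra.TensorProduct.includeRight.toRingHom
  have hbig : IsPullback (Spec.map inr) (Spec.map inl) (Spec.map φ) (j ≫ f) := by
    rw [← hψ]
    exact (isPullback_SpecMap_of_isPushout _ _ _ _ (CommRingCat.isPushout_tensorProduct k A k')).flip
  let J : Spec T ⟶ X' := h.lift (Spec.map inl ≫ j) (Spec.map inr) (by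
    rw [Category.assoc]; exact hbig.w.symm)
  have sq : IsPullback J (Spec.map inl) p j := by
    refine IsPullback.of_right ?_ (h.lift_fst _ _ _) h.flip
    rw [h.lift_snd]
    exact hbig
  haveI : IsOpenImmersion J := MorphismProperty.of_isPullback sq.flip inferInstance
  obtain ⟨y, hy⟩ : x' ∈ Set.range J := by
    have hr : Set.range (pullback.fst p j) = p ⁻¹ᵁ j.opensRange := IsOpenImmersion.range_pullbackFst _ _
    rw [← sq.isoPullback_hom_fst, Scheme.Hom.comp_base, TopCat.coe_comp, Set.range_comp,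
      Set.range_eq_univ.2 sq.isoPullback.hom.surjective, Set.image_univ, hr]
    exact ⟨hU.primeIdealOf ⟨_, hxU⟩, hU.fromSpec_primeIdealOf _⟩
  subst hy
  have hj : p (J y) = j (Spec.map inl y) := by
    rw [← Scheme.Hom.comp_apply, sq.w, Scheme.Hom.comp_apply]
  rw [hj]
  refine (stalk_cm_iff j (Spec.map inl y)).trans (Iff.trans ?_ (stalk_cm_iff J y).symm)
  haveI : (show Ideal (A ⊗[k] k') from y.asIdeal).IsPrime := y.isPrime
  exact cm_iff_baseChange_field A k' (show Ideal (A ⊗[k] k') from y.asIdeal)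

/-- The fibre local ring does not depend on the presentation of the point. -/
theorem cm_fiber_stalk_iff {X S : Scheme.{u}} (f : X ⟶ S) (x : X) {y : S} (hx : f x = y)
    (z : ↥(f.fiber y)) (hz : f.fiberι y z = x) :
    LocCoh.IsCohenMacaulayLocalRing ((f.fiber y).presheaf.stalk z) ↔
      LocCoh.IsCohenMacaulayLocalRing ((f.fiber (f x)).presheaf.stalk (f.asFiber x)) := by
  subst hx
  obtain ⟨e₁⟩ := FlatDepth.fiber_stalk_aux f x rfl specializes_rfl z hz
  obtain ⟨e₂⟩ := FlatDepth.fiber_stalk_aux f x rfl specializes_rfl (f.asFiber x) (f.fiberι_asFiber x)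
  exact ⟨cm_congr (e₁.symm.trans e₂), cm_congr (e₂.symm.trans e₁)⟩

/-- Being Cohen–Macaulay in the fibre is compatible with base change along morphisms locally of finite type. -/
theorem cm_fiber_iff_baseChange {X S X' S' : Scheme.{u}} (f : X ⟶ S) (g : S' ⟶ S) [LocallyOfFiniteType g]
    (g' : X' ⟶ X) (f' : X' ⟶ S') (hsq : IsPullback g' f' f g) (x' : X')
    (hN : IsLocallyNoetherian (f.fiber (g (f' x')))) :
    LocCoh.IsCohenMacaulayLocalRing ((f'.fiber (f' x')).presheaf.stalk (f'.asFiber x')) ↔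
      LocCoh.IsCohenMacaulayLocalRing ((f.fiber (f (g' x'))).presheaf.stalk (f.asFiber (g' x'))) := by
  have hfib := isPullback_fiberToSpecResidueField_of_isPullback hsq (f' x')
  let μ : f'.fiber (f' x') ⟶ f.fiber (g (f' x')) :=
    pullback.map _ _ _ _ g' (Spec.map (g.residueFieldMap (f' x'))) g hsq.w.symm (by simp)
  have hx : f (g' x') = g (f' x') := by rw [← Scheme.Hom.comp_apply, hsq.w, Scheme.Hom.comp_apply]
  have hz : f.fiberι (g (f' x')) (μ (f'.asFiber x')) = g' x' := by
    rw [← Scheme.Hom.comp_apply, show μ ≫ f.fiberι _ = f'.fiberι _ ≫ g' from pullback.lift_fst _ _ _,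
      Scheme.Hom.comp_apply, f'.fiberι_asFiber]
  rw [← cm_fiber_stalk_iff f (g' x') hx (μ (f'.asFiber x')) hz]
  exact (@cm_stalk_iff_of_isPullback (S.residueField (g (f' x'))) (S'.residueField (f' x')) _ _
    (g.residueFieldMap (f' x')) _ _ _ _ _ hN
    (Or.inr (NormFin18.essFiniteType_residueFieldMap g (f' x'))) hfib (f'.asFiber x')).symm

variable {X Y X' Y' : Scheme.{u}} {f : X ⟶ Y} {f' : X' ⟶ Y'} {g' : X' ⟶ X} {g : Y' ⟶ Y} [LocallyOfFiniteType g]

theorem isCMAt_baseChange (hc : IsPullback g' f' f g) (hN : ∀ y : Y, IsLocallyNoetherian (f.fiber y)) (x' : X')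
    (h : MoreMor.IsCMAt f (g' x')) : MoreMor.IsCMAt f' x' :=
  ⟨FlatH4.flat_stalkMap_baseChange hc.flip x' h.1, (cm_fiber_iff_baseChange f g g' f' hc x' (hN _)).2 h.2⟩

theorem isCMAt_of_baseChange (hc : IsPullback g' f' f g) (hN : ∀ y : Y, IsLocallyNoetherian (f.fiber y)) (x' : X')
    (hflat : (f.stalkMap (g' x')).hom.Flat) (h : MoreMor.IsCMAt f' x') : MoreMor.IsCMAt f (g' x') :=
  ⟨hflat, (cm_fiber_iff_baseChange f g g' f' hc x' (hN _)).1 h.2⟩

omit [LocallyOfFiniteType g] in
theorem flat_stalkMap_of_baseChange (hc : IsPullback g' f' f g) (x' : X') (hg : (g.stalkMap (f' x')).hom.Flat)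
    (hf' : (f'.stalkMap x').hom.Flat) : (f.stalkMap (g' x')).hom.Flat := by
  refine Descend.flat_stalkMap_of_comp g' f x' (FlatH4.flat_stalkMap_baseChange hc x' hg) ?_
  have h := AlgSpDecent.FlatAt.flat_stalkMap_comp f' g x' hf' hg
  rw [← hc.w] at h
  exact h

end Groth.Agent.CMBase
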